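import Cfsg.Agent.H0.PG2
set_option maxRecDepth 100000
set_option Elab.async false
set_option linter.unusedSectionVars false
namespace H0.MS44
open H0 BN 
noncomputable def n0 : Net := (Net.cons (nat_lit 64) (nat_lit 0x440887085115e000) (Net.cons (nat_lit 32) (nat_lit 0x4120d0000000000b0ca0288) (Net.cons (nat_lit 16) (nat_lit 0xa000000d00c000083e800000591) (Net.cons (nat_lit 8) (nat_lit 0x58000800140042001a004b00a00060) (Net.cons (nat_lit 4) (nat_lit 0x2040c00000404070006020c01040c0a) (Net.cons (nat_lit 2) (nat_lit 0x20200011000130202200000021000) (Net.cons (nat_lit 1) (nat_lit 0x10044100400011411041101004540014) (Net.cons (nat_lit 2) (nat_lit 0x20200000000020002002000020000) (Net.cons (nat_lit 4) (nat_lit 0x2040c0000040008000408020004040a) (Net.cons (nat_lit 8) (nat_lit 0x50000800140042001a00f000a00000) (Net.cons (nat_lit 16) (nat_lit 0xa000000d00c000083a800000590) (Net.cons (nat_lit 32) (nat_lit 0x4120d0000000000b0ca0288) (Net.cons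 (nat_lit 64) (nat_lit 0x440887085115e000) Net.nil)))))))))))))
noncomputable def n1 : Net := (Net.cons (nat_lit 64) (nat_lit 0xca6524dc226e3cc0) (Net.cons (nat_lit 32) (nat_lit 0x80478a84000000003083697d) (Net.cons (nat_lit 16) (nat_lit 0xaed4000027320000809300008d20) (Net.cons (nat_lit 8) (nat_lit 0x820040007400440017009c00f60089) (Net.cons (nat_lit 4) (nat_lit 0x20304000d00060f090107050c000102) (Net.cons (nat_lit 2) (nat_lit 0x22110000200302030201130300100222) (Net.cons (nat_lit 1) (nat_lit 0x40110404440504010104140441504401) (Net.cons (nat_lit 2) (nat_lit 0x20200200200002000000200020000202) (Net.cons (nat_lit 4) (nat_lit 0x80004000800000e08000c060e04040a) (Net.cons (nat_lit 8) (nat_lit 0xc6004000500044000600e4004a0008) (Net.cons (nat_lit 16) (nat_lit 0xa6900000273e000090900000d4a0) (Net.cons (nat_lit 32) (nat_lit 0x80078ec0000000003509697c) (Net.cons (nat_lit 64) (nat_lit 0xca6524dc22618418) Net.nil)))))))))))))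
noncomputable def n2 : Net := (Net.cons (nat_lit 64) (nat_lit 0x9af144918063249a) (Net.cons (nat_lit 32) (nat_lit 0xaa7419100000000369f1864) (Net.cons (nat_lit 16) (nat_lit 0x5400000044d8000028d40000c462) (Net.cons (nat_lit 8) (nat_lit 0x4200910046002c004f009c0048003c) (Net.cons (nat_lit 4) (nat_lit 0x4010101000700030b0c0d0a06040d03) (Net.cons (nat_lit 2) (nat_lit 0x2302000003202323303020200223202) (Net.cons (nat_lit 1) (nat_lit 0x44401000404104101444410041441414) (Net.cons (nat_lit 2) (nat_lit 0x2202000000002000202000002222220) (Net.cons (nat_lit 4) (nat_lit 0x80800000c0c06080a000808) (Net.cons (nat_lit 8) (nat_lit 0x4600800086008e0000000c00640028) (Net.cons (nat_lit 16) (nat_lit 0x54000000c69000002bd400008d64) (Net.cons (nat_lit 32) (nat_lit 0xa974110000000001395b96c) (Net.cons (nat_lit 64) (nat_lit 0x9af14491806b3080) Net.nil)))))))))))))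
noncomputable def n3 : Net := (Net.cons (nat_lit 64) (nat_lit 0x4000000000000000) (Net.cons (nat_lit 32) (nat_lit 0x4000000000000000e783e808) (Net.cons (nat_lit 16) (nat_lit 0x40940000e31e00002848) (Net.cons (nat_lit 8) (nat_lit 0x40007400a90016009800b4) (Net.cons (nat_lit 4) (nat_lit 0xa0d05090a040b060f0900) (Net.cons (nat_lit 2) (nat_lit 0x3013132212211122002020) (Net.cons (nat_lit 1) (nat_lit 0x441145451104141114544) (Net.cons (nat_lit 2) (nat_lit 0x2020202002220220022) (Net.cons (nat_lit 4) (nat_lit 0xa000208000e0404000408) (Net.cons (nat_lit 8) (nat_lit 0x40007400e0001600a0008a) (Net.cons (nat_lit 16) (nat_lit 0x4094000043080000977a) (Net.cons (nat_lit 32) (nat_lit 0x4000000000000000d7626100) (Net.cons (nat_lit 64) (nat_lit 0x4000000000000000) Net.nil)))))))))))))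
noncomputable def n4 : Net := (Net.cons (nat_lit 64) (nat_lit 0x20104008002000) (Net.cons (nat_lit 32) (nat_lit 0x211dc800000000f2fbcf2e) (Net.cons (nat_lit 16) (nat_lit 0x19880000c82e0000efab00006bf0) (Net.cons (nat_lit 8) (nat_lit 0x9004000c000680027006300fa0070) (Net.cons (nat_lit 4) (nat_lit 0x800040000020a0f0f0d060b06060802) (Net.cons (nat_lit 2) (nat_lit 0x20020000003210201230023022211000) (Net.cons (nat_lit 1) (nat_lit 0x10010000001410411145414515540554) (Net.cons (nat_lit 2) (nat_lit 0x20020000002220000200020000000002) (Net.cons (nat_lit 4) (nat_lit 0x808000000000a0c0004040a000a0800) (Net.cons (nat_lit 8) (nat_lit 0x4000c00050007c004200ea0030) (Net.cons (nat_lit 16) (nat_lit 0x19880000c8280000c58200003f2c) (Net.cons (nat_lit 32) (nat_lit 0x211dc800000000f0e4c51c) (Net.cons (nat_lit 64) (nat_lit 0x20104008002000) Net.nil)))))))))))))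
noncomputable def n5 : Net := (Net.cons (nat_lit 64) (nat_lit 0x20104008002000) (Net.cons (nat_lit 32) (nat_lit 0x211dc800000000f0e4c51c) (Net.cons (nat_lit 16) (nat_lit 0x198800000a3200003a7d00003f2c) (Net.cons (nat_lit 8) (nat_lit 0x99004000120058003a008d00fa0030) (Net.cons (nat_lit 4) (nat_lit 0x8080400020e000901040a0f0c0a0800) (Net.cons (nat_lit 2) (nat_lit 0x2200000000010121302321310131002) (Net.cons (nat_lit 1) (nat_lit 0x1100000104040445141115451510554) (Net.cons (nat_lit 2) (nat_lit 0x2200000002000220200200202020000) (Net.cons (nat_lit 4) (nat_lit 0x80000020c00080e06040000060802) (Net.cons (nat_lit 8) (nat_lit 0x90004000100028003000a8007a0070) (Net.cons (nat_lit 16) (nat_lit 0x198800000a320000105400006bf0) (Net.cons (nat_lit 32) (nat_lit 0x211dc800000000f2fbcf2e) (Net.cons (nat_lit 64) (nat_lit 0x20104008002000) Net.nil)))))))))))))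
noncomputable def n6 : Net := (Net.cons (nat_lit 64) (nat_lit 0xc000000000000000) (Net.cons (nat_lit 32) (nat_lit 0xc00000000000000029ff9d2c) (Net.cons (nat_lit 16) (nat_lit 0x40010000339b0000ceee) (Net.cons (nat_lit 8) (nat_lit 0xc0006000da000b00640072) (Net.cons (nat_lit 4) (nat_lit 0xd010e0e0d050b0b0c0a0a) (Net.cons (nat_lit 2) (nat_lit 0x2020011210020201232030) (Net.cons (nat_lit 1) (nat_lit 0x1400040441544115414440) (Net.cons (nat_lit 2) (nat_lit 0x2000000000000000022000) (Net.cons (nat_lit 4) (nat_lit 0x408040c0c000e0400040a) (Net.cons (nat_lit 8) (nat_lit 0xc0007200ee0060007800a8) (Net.cons (nat_lit 16) (nat_lit 0x80000331800000fbe) (Net.cons (nat_lit 32) (nat_lit 0xc000000000000000130ac3ec) (Net.cons (nat_lit 64) (nat_lit 0xc000000000000000) Net.nil)))))))))))))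
noncomputable def n7 : Net := (Net.cons (nat_lit 64) (nat_lit 0xc000000000000000) (Net.cons (nat_lit 32) (nat_lit 0xc000000000000000130ac3ec) (Net.cons (nat_lit 16) (nat_lit 0xd9b100005ca700000fbe) (Net.cons (nat_lit 8) (nat_lit 0x7000e20097002e00390056) (Net.cons (nat_lit 4) (nat_lit 0x904000b010b06030b0a0a0a) (Net.cons (nat_lit 2) (nat_lit 0x200300020001100330013002) (Net.cons (nat_lit 1) (nat_lit 0x100411441405151441044) (Net.cons (nat_lit 2) (nat_lit 0x200022020200200020002) (Net.cons (nat_lit 4) (nat_lit 0xc00000408040204020a04) (Net.cons (nat_lit 8) (nat_lit 0x6000e000b4009a00c4008c) (Net.cons (nat_lit 16) (nat_lit 0x99b8000068640000ceee) (Net.cons (nat_lit 32) (nat_lit 0xc00000000000000029ff9d2c) (Net.cons (nat_lit 64) (nat_lit 0xc000000000000000) Net.nil)))))))))))))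
noncomputable def n8 : Net := (Net.cons (nat_lit 32) (nat_lit 0x7130cb54) (Net.cons (nat_lit 16) (nat_lit 0x92e000005460) (Net.cons (nat_lit 8) (nat_lit 0x300083003c00e100ee) (Net.cons (nat_lit 4) (nat_lit 0x30a080d000609020c040a) (Net.cons (nat_lit 2) (nat_lit 0x333022331113320211102) (Net.cons (nat_lit 1) (nat_lit 0x1145504105115514114410) (Net.cons (nat_lit 2) (nat_lit 0x200000000020020202020) (Net.cons (nat_lit 4) (nat_lit 0x202060a04000004080808) (Net.cons (nat_lit 8) (nat_lit 0xd4003a002c00740062) (Net.cons (nat_lit 16) (nat_lit 0xbf400000eb30) (Net.cons (nat_lit 32) (nat_lit 0x76dd703c) Net.nil)))))))))))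
noncomputable def n9 : Net := (Net.cons (nat_lit 32) (nat_lit 0x76dd703c) (Net.cons (nat_lit 16) (nat_lit 0xbf400000eb30) (Net.cons (nat_lit 8) (nat_lit 0xd400c1002c00530062) (Net.cons (nat_lit 4) (nat_lit 0xd060604050b09030e090a) (Net.cons (nat_lit 2) (nat_lit 0x1033023230133321201322) (Net.cons (nat_lit 1) (nat_lit 0x4115500544445554101110) (Net.cons (nat_lit 2) (nat_lit 0x2220000202200) (Net.cons (nat_lit 4) (nat_lit 0xc0808000208000a080002) (Net.cons (nat_lit 8) (nat_lit 0x30006c003c008200ee) (Net.cons (nat_lit 16) (nat_lit 0x92e000005460) (Net.cons (nat_lit 32) (nat_lit 0x7130cb54) Net.nil)))))))))))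
noncomputable def n10 : Net := (Net.cons (nat_lit 32) (nat_lit 0x40000000) (Net.cons (nat_lit 16) (nat_lit 0xc00000000000) (Net.cons (nat_lit 8) (nat_lit 0x2000cc00c000e400c0) (Net.cons (nat_lit 4) (nat_lit 0x30e080c0c0e0e0a0f0c) (Net.cons (nat_lit 2) (nat_lit 0x300300003300123223330) (Net.cons (nat_lit 1) (nat_lit 0x15544155555045100000) (Net.cons (nat_lit 2) (nat_lit 0x20200000) (Net.cons (nat_lit 4) (nat_lit 0xe080c0c0e080a000c) (Net.cons (nat_lit 8) (nat_lit 0x2000cc00c000e400c0) (Net.cons (nat_lit 16) (nat_lit 0xc00000000000) (Net.cons (nat_lit 32) (nat_lit 0x40000000) Net.nil)))))))))))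
noncomputable def n11 : Net := (Net.cons (nat_lit 32) (nat_lit 0x20000000) (Net.cons (nat_lit 16) (nat_lit 0x300000000000) (Net.cons (nat_lit 8) (nat_lit 0x80000000e0000000c0) (Net.cons (nat_lit 4) (nat_lit 0x90e00080c0700000f00) (Net.cons (nat_lit 2) (nat_lit 0x23020330031100003300) (Net.cons (nat_lit 1) (nat_lit 0x515541501404141545514) (Net.cons (nat_lit 2) (nat_lit 0x20020000002200000000) (Net.cons (nat_lit 4) (nat_lit 0xe00080c0800000000) (Net.cons (nat_lit 8) (nat_lit 0x80000000e0000000c0) (Net.cons (nat_lit 16) (nat_lit 0x300000000000) (Net.cons (nat_lit 32) (nat_lit 0x20000000) Net.nil)))))))))))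
noncomputable def n12 : Net := (Net.cons (nat_lit 64) (nat_lit 0x4a89b226a113af1) (Net.cons (nat_lit 32) (nat_lit 0x622368800000000078de22d4) (Net.cons (nat_lit 16) (nat_lit 0x33a200008850000026c50000f4a9) (Net.cons (nat_lit 8) (nat_lit 0xb000ca0088002d009d004000a80042) (Net.cons (nat_lit 4) (nat_lit 0xe03020c000e02000d0c040d04070b07) (Net.cons (nat_lit 2) (nat_lit 0x3022002002003033003022010100003) (Net.cons (nat_lit 1) (nat_lit 0x1000004001410010100041410441404) (Net.cons (nat_lit 2) (nat_lit 0x2002200000200022020002002) (Net.cons (nat_lit 4) (nat_lit 0xa00000400020200040c040004000006) (Net.cons (nat_lit 8) (nat_lit 0xb20048008800280088004000200016) (Net.cons (nat_lit 16) (nat_lit 0x33a00000886c0000248000000188) (Net.cons (nat_lit 32) (nat_lit 0x6223e38200000000699c6294) (Net.cons (nat_lit 64) (nat_lit 0x4a89b226a0e1f36) Net.nil)))))))))))))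
def B : List (List ℕ) := [[0, 0], [1, 2], [2, 1], [3, 3], [4, 5], [5, 4], [6, 7], [7, 6], [8, 9], [9, 8], [10, 10], [11, 11], [10, 11, 10, 11], [10, 11, 10, 11], [6, 6, 6], [8, 8, 8, 8, 8], [9, 7, 9, 9, 6, 10], [9, 9, 7, 8, 6, 9, 11], [6, 8, 6, 8, 6, 8, 6, 8, 6, 8, 6, 8], [6, 8, 7, 9, 6, 8, 7, 9, 6, 8, 7, 9, 6, 8, 7, 9, 6, 8, 7, 9], [6, 9, 6, 9, 6, 9, 6, 9, 6, 9, 6, 9, 6, 9, 6, 9, 6, 9, 6, 9, 6, 9, 6, 9, 6, 9, 6, 9, 6, 9], [7, 11, 6, 9, 11, 10], [6, 11, 7, 8, 11, 10], [4, 4, 4, 4, 4, 4], [3, 4, 3, 5, 3, 5, 5, 7], [5, 5, 5, 3, 5, 3, 4, 9], [3, 4, 3, 4, 3, 4, 3, 4, 3, 4, 3, 4, 3, 4, 3, 4, 3, 4, 3, 4, 3, 4, 3, 4, 3, 4, 3, 4, 3, 4], [3, 5, 3, 5, 3, 5, 3, 5, 3, 5, 3, 5, 3, 5, 3, 5, 3, 5, 3, 5, 3, 5, 3, 5, 3, 5, 3, 5, 3, 5], [3, 8, 3, 8], [3, 11, 3, 9, 11, 8], [4, 9, 7, 4, 9, 7], [4, 4, 6, 4, 4, 6], [5, 7, 4, 3, 6, 11, 9], [4, 11, 4, 11, 4, 11], [5, 10, 4, 3, 4, 11, 10, 7], [4, 9, 3, 8, 4, 8, 6, 11], [5, 9, 11, 8, 4, 6, 11, 7], [4, 7, 8,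 4, 4, 10, 6, 8], [5, 9, 6, 9, 5, 9, 6, 9], [5, 3, 10, 3, 4, 6, 10, 7], [1, 1, 1, 1, 1], [0, 1, 0, 2, 2, 0, 1, 1, 0, 2, 3], [2, 0, 2, 2, 0, 1, 1, 0, 2, 2, 0, 5], [0, 1, 0, 2, 0, 1, 0, 2], [2, 7, 2, 7], [0, 3, 0, 3], [2, 11, 1, 5, 11, 4], [2, 10, 1, 5, 10, 4], [0, 6, 8, 0, 6, 4, 9, 4], [1, 7, 1, 0, 5, 10, 9, 5], [0, 7, 9, 9, 0, 8, 10, 7], [0, 8, 7, 9, 0, 8, 6, 9], [0, 1, 11, 2, 0, 6, 10, 7], [2, 5, 3, 2, 8, 8, 10, 4, 6], [1, 0, 5, 1, 7, 3, 11, 4, 3], [1, 11, 3, 1, 6, 9, 5, 10], [0, 4, 8, 4, 0, 10, 8, 5, 10], [1, 9, 1, 3, 2, 9, 4, 7, 3], [0, 1, 10, 2, 0, 11, 6, 9, 7], [0, 7, 2, 4, 2, 11, 10, 4, 6, 3], [0, 2, 0, 5, 2, 2, 3], [0, 4, 6, 1, 5, 0, 9, 10, 3]]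
def inv (x : ℕ) : ℕ := [0, 2, 1, 3, 5, 4, 7, 6, 9, 8, 10, 11].getD x 0
noncomputable def nl : List Net := [n0, n1, n2, n3, n4, n5, n6, n7, n8, n9, n10, n11, n12]
theorem nl_ok : allL (Net.ok (nat_lit 128)) nl = true := by decide +kernel
noncomputable def R : Rep := mkRep (nat_lit 7) (nat_lit 128) nl (by decide +kernel) nl_ok
def defs : List (List ℕ) := [[2, 0]]
theorem R_ge : ∀ x, 12 + defs.length ≤ x → R.p x = 1 := fun _ hx => mkRep_ge hx
def ngSt : List (List (ℕ × List ℕ) × List ℕ × ℕ × ℕ) := [([(0, [])], [0], 5, 2), ([(1, [])], [6], 10, 3), ([(2, [])], [7], 1, 3), ([(2, [])], [1], 2, 5), ([(4, [])], [2], 1, 5), ([(2, [])], [8], 6, 5), ([(6, [])], [9], 1, 5), ([(6, [])], [11], 3, 2), ([(6, [])], [10], 5, 2), ([(2, [])], [3], 15, 2), ([(1, [])], [4], 17, 6), ([(11, [])], [5], 1, 6)]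
def ngR : List (List ℕ) := ngRels inv ngSt [[12]]
def xR : List (List ℕ) := [wpow [12] 17]
theorem c0 : relsW R 0 R.lg ((B.drop 0).take 62) = true := by decide +kernel
theorem c1 : defsChk R defs 12 = true := by decide +kernel
theorem c2 : Model.fixW R [] [[0], [1]] = true := by decide +kernel
theorem c3 : Model.growW R [[0], [1]] [0, 1, 0, 1, 1, 0, 1, 1, 0, 1, 1, 0, 1, 0] (Nat.pow 2 0) (ival 0 85) = true := by decide +kernel
theorem c4 : Model.fixW R [0] [[3], [4]] = true := by decide +kernel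
theorem c5 : Model.growW R [[3], [4]] [0, 1, 0, 1, 0, 1, 0, 1, 0, 1, 0, 1, 0, 1] (Nat.pow 2 1) (ival 1 64) = true := by decide +kernel
theorem c6 : Model.fixW R [1, 0] [[6], [8]] = true := by decide +kernel
theorem c7 : Model.growW R [[6], [8]] [0, 1, 0, 1, 0, 1, 0, 1, 0] (Nat.pow 2 17) (ival 17 45) = true := by decide +kernel
theorem c8 : Model.fixW R [17, 1, 0] [[10], [11]] = true := by decide +kernel
theorem c9 : Model.growW R [[10], [11]] [0, 1] (Nat.pow 2 2) (ival 2 4) = true := by decide +kernel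
theorem c10 : Model.growW R [[0], [1]] [0, 1, 0, 1, 1, 0, 1, 1, 0, 1, 1, 0, 1, 0] (Nat.pow 2 0) (ival 0 85) = true := by decide +kernel
theorem c11 : Model.invW R [[0], [1], [2], [3], [4], [5], [6], [7], [8], [9], [10], [11]] 0 85 = true := by decide +kernel
theorem c12 : Model.fixW R [0] [[3], [4]] = true := by decide +kernel
theorem c13 : Model.growW R [[3], [4]] [0, 1, 0, 1, 0, 1, 0, 1, 0, 1, 0, 1] (Nat.pow 2 27) (ival 1 64) = true := by decide +kernel
theorem c14 : mapsW R [1] (Nat.pow 2 0) (Nat.pow 2 27) = true := by decide +kernel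
theorem c15 : Model.growW R [[1], [3], [4]] [0, 0, 2, 0, 2, 1, 0, 2, 0, 1, 2] (Nat.pow 2 0) (ival 0 85) = true := by decide +kernel
theorem c16 : Model.growW R [[3], [4]] [1, 0, 1, 0, 1, 1, 0, 1, 0, 1] (Nat.pow 2 80) (ival 65 20) = true := by decide +kernel
theorem c17 : mapsW R [0] (Nat.pow 2 0) (Nat.pow 2 80) = true := by decide +kernel
theorem c18 : Model.growW R [[0], [3], [4]] [0, 2, 0, 1, 2, 0, 1, 2, 2, 0, 2, 1, 0] (Nat.pow 2 0) (ival 0 85) = true := by decide +kernel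
theorem c19 : relsW R 0 R.lg ((ngR.drop 0).take 24) = true := by decide +kernel
theorem c20 : relsW R 0 R.lg ((xR.drop 0).take 1) = true := by decide +kernel
end H0.MS44
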